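import Cfsg.Agent.Lib.H4.AutPerm.Mat

/-!
# The algebra of the incidence matrix and the number-theoretic contradiction
-/

namespace Cfsg.Agent.Lib.H4.AutPerm

open Matrix

section NT

/-- the arithmetic heart: no integer solution -/
theorem nt_false (n k h : ℕ) (c a f e1 e2 : ℤ)
    (hk2 : 2 ≤ k) (hkn : k + 2 ≤ n) (hcop : Nat.Coprime k n)
    (hc : c * ((n : ℤ) - 1) = k * ((n : ℤ) - k))
    (ha : a ^ 2 = c ^ (2 * h + 1))
    (hent : c ^ (h + 1) * e1 = a * e2 + f)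
    (hrow : c ^ (h + 1) * (k : ℤ) ^ h = a * (k : ℤ) ^ (h + 1) + f * n) : False := by
  have hn1 : (0 : ℤ) < (n : ℤ) - 1 := by
    have : (4 : ℤ) ≤ n := by exact_mod_cast (by omega : 4 ≤ n)
    linarith
  have hkZ : (2 : ℤ) ≤ k := by exact_mod_cast hk2
  have hknZ : (k : ℤ) + 2 ≤ n := by exact_mod_cast hkn
  have hcpos : 0 < c := by
    by_contra hcon
    push Not at hcon
    have h1 : c * ((n : ℤ) - 1) ≤ 0 := mul_nonpos_of_nonpos_of_nonneg hcon hn1.le
    have h2 : 0 < (k : ℤ) * ((n : ℤ) - k) := by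
      apply mul_pos <;> linarith
    linarith
  -- c^h ∣ a
  have hdiv : c ^ h ∣ a := by
    have : (c ^ h) ^ 2 ∣ a ^ 2 := by
      rw [ha]
      refine ⟨c, ?_⟩
      ring
    exact (Int.pow_dvd_pow_iff (by norm_num)).1 this
  obtain ⟨s, hs⟩ := hdiv
  have hchne : c ^ h ≠ 0 := pow_ne_zero _ hcpos.ne'
  have hs2 : s ^ 2 = c := by
    have h1 : (c ^ h) ^ 2 * s ^ 2 = (c ^ h) ^ 2 * c := by
      have : a ^ 2 = (c ^ h) ^ 2 * s ^ 2 := by rw [hs]; ring
      rw [← this, ha]; ring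
    exact mul_left_cancel₀ (pow_ne_zero 2 hchne) h1
  have hsne : s ≠ 0 := by
    rintro rfl
    simp at hs2
    exact hcpos.ne' hs2.symm
  -- f = c^h * s * (s*e1 - e2)
  have hf : f = c ^ h * s * (s * e1 - e2) := by
    have : c ^ (h + 1) = c ^ h * s ^ 2 := by rw [hs2, pow_succ]
    rw [this, hs] at hent
    linear_combination (-1 : ℤ) * hent
  -- row equation
  have hrow' : s * (k : ℤ) ^ h = (k : ℤ) ^ (h + 1) + (s * e1 - e2) * n := by
    have h1 : c ^ (h + 1) = c ^ h * s ^ 2 := by rw [hs2, pow_succ]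
    rw [h1, hs, hf] at hrow
    have h2 : c ^ h * s * (s * (k : ℤ) ^ h) = c ^ h * s * ((k : ℤ) ^ (h + 1) + (s * e1 - e2) * n) := by
      linear_combination hrow
    exact mul_left_cancel₀ (mul_ne_zero hchne hsne) h2
  have hdvd : (n : ℤ) ∣ (k : ℤ) ^ h * (s - k) := by
    refine ⟨s * e1 - e2, ?_⟩
    rw [pow_succ] at hrow'
    linear_combination hrow'
  have hcopZ : IsCoprime (n : ℤ) ((k : ℤ) ^ h) := by
    apply IsCoprime.pow_right
    exact (Nat.isCoprime_iff_coprime.2 hcop.symm)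
  have hdvd' : (n : ℤ) ∣ s - k := hcopZ.dvd_of_dvd_mul_left hdvd
  -- bounds on s
  have hsk : s ^ 2 < (k : ℤ) ^ 2 := by
    have h1 : s ^ 2 * ((n : ℤ) - 1) < (k : ℤ) ^ 2 * ((n : ℤ) - 1) := by
      rw [hs2, hc]
      have h3 : (k : ℤ) ^ 2 * ((n : ℤ) - 1) - k * ((n : ℤ) - k) = k * n * ((k : ℤ) - 1) := by ring
      have h4 : 0 < (k : ℤ) * n * ((k : ℤ) - 1) := by
        apply mul_pos (mul_pos _ _) <;> linarith
      linarith
    exact lt_of_mul_lt_mul_right h1 hn1.le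
  have hsnk : s ^ 2 < ((n : ℤ) - k) ^ 2 := by
    have h1 : s ^ 2 * ((n : ℤ) - 1) < ((n : ℤ) - k) ^ 2 * ((n : ℤ) - 1) := by
      rw [hs2, hc]
      have h3 : ((n : ℤ) - k) ^ 2 * ((n : ℤ) - 1) - k * ((n : ℤ) - k)
          = ((n : ℤ) - k) * (((n : ℤ) - k) * ((n : ℤ) - 1) - k) := by ring
      have h5 : (0 : ℤ) < ((n : ℤ) - k) * ((n : ℤ) - 1) - k := by nlinarith
      have h4 : 0 < ((n : ℤ) - k) * (((n : ℤ) - k) * ((n : ℤ) - 1) - k) := by
        apply mul_pos _ h5; linarith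
      linarith
    exact lt_of_mul_lt_mul_right h1 hn1.le
  have hk0 : (0 : ℤ) ≤ k := by linarith
  have hnk0 : (0 : ℤ) ≤ (n : ℤ) - k := by linarith
  have hb1 := abs_lt_of_sq_lt_sq hsk hk0
  have hb2 := abs_lt_of_sq_lt_sq hsnk hnk0
  rw [abs_lt] at hb1 hb2
  obtain ⟨t, ht⟩ := hdvd'
  have ht1 : -(n : ℤ) < n * t := by linarith [hb2.1, hb1.1]
  have ht2 : (n : ℤ) * t < 0 := by linarith [hb1.2]
  have hnpos : (0 : ℤ) < n := by linarith
  have : -1 < t := by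
    by_contra hcon
    push Not at hcon
    nlinarith
  have : t < 0 := by
    by_contra hcon
    push Not at hcon
    nlinarith
  omega

end NT

section Alg

variable {G Ω : Type*} [Group G] [MulAction G Ω] [Fintype Ω] [DecidableEq Ω]

omit [DecidableEq Ω] in
theorem JJ_mul_JJ : (JJ : Matrix Ω Ω ℤ) * JJ = (Fintype.card Ω : ℤ) • JJ := by
  ext x y; simp [Matrix.mul_apply]

theorem pow_mul_JJ {A : Matrix Ω Ω ℤ} {k : ℤ} (h : A * JJ = k • JJ) (j : ℕ) :
    A ^ j * JJ = k ^ j • JJ := by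
  induction j with
  | zero => simp
  | succ j ih =>
    rw [pow_succ, Matrix.mul_assoc, h, Matrix.mul_smul, ih, smul_smul, pow_succ, mul_comm]

theorem JJ_mul_pow {A : Matrix Ω Ω ℤ} {k : ℤ} (h : JJ * A = k • JJ) (j : ℕ) :
    JJ * A ^ j = k ^ j • JJ := by
  induction j with
  | zero => simp
  | succ j ih =>
    rw [pow_succ', ← Matrix.mul_assoc, h, Matrix.smul_mul, ih, smul_smul, pow_succ, mul_comm]

theorem SS_mul_SS (a b a' b' : ℤ) :
    (a • (1 : Matrix Ω Ω ℤ) + b • JJ) * (a' • (1 : Matrix Ω Ω ℤ) + b' • JJ)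
      = (a * a') • (1 : Matrix Ω Ω ℤ) + (a * b' + b * a' + b * b' * (Fintype.card Ω : ℤ)) • JJ := by
  rw [Matrix.mul_add, Matrix.add_mul, Matrix.add_mul]
  simp only [Matrix.smul_mul, Matrix.mul_smul, Matrix.one_mul, Matrix.mul_one, JJ_mul_JJ, smul_smul,
    add_smul]
  ext x y
  simp only [Matrix.add_apply, Matrix.smul_apply, JJ_apply, smul_eq_mul]
  ring

theorem pow_mul_pow {A B : Matrix Ω Ω ℤ} {k c l : ℤ} (hA : A * JJ = k • JJ) (hB : JJ * B = k • JJ)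
    (hAB : A * B = c • (1 : Matrix Ω Ω ℤ) + l • JJ) (j : ℕ) :
    ∃ lj : ℤ, A ^ j * B ^ j = c ^ j • (1 : Matrix Ω Ω ℤ) + lj • JJ := by
  induction j with
  | zero => exact ⟨0, by simp⟩
  | succ j ih =>
    obtain ⟨lj, hlj⟩ := ih
    refine ⟨c * lj + l * (k ^ j * k ^ j), ?_⟩
    have e : A ^ (j + 1) * B ^ (j + 1) = A ^ j * (A * B) * B ^ j := by
      rw [pow_succ, pow_succ']; simp only [Matrix.mul_assoc]
    rw [e, hAB, Matrix.mul_add, Matrix.add_mul, Matrix.mul_smul, Matrix.mul_one, Matrix.smul_mul, hlj,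
      Matrix.mul_smul, pow_mul_JJ hA, Matrix.smul_mul, Matrix.smul_mul, JJ_mul_pow hB]
    simp only [smul_add, smul_smul, add_smul, pow_succ]
    ext x y
    simp only [Matrix.add_apply, Matrix.smul_apply, JJ_apply, smul_eq_mul]
    ring

/-- The matrix contradiction: a twisted-invariant 0/1 matrix with column sums `k`, `k` coprime
to the degree, `2 ≤ k ≤ n - 2`, for an automorphism of odd order, cannot exist. -/
theorem main_false (h2 : MulAction.IsMultiplyPretransitive G Ω 2) {x₀ y₀ : Ω} (hne : x₀ ≠ y₀)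
    (β : MulAut G) (h : ℕ) (hβ : β ^ (2 * h + 1) = 1) (A : Matrix Ω Ω ℤ) (hA : TInv β A)
    (k : ℕ) (hJA : JJ * A = (k : ℤ) • JJ) (h01 : ∀ x y, A x y = 0 ∨ A x y = 1)
    (hk2 : 2 ≤ k) (hkn : k + 2 ≤ Fintype.card Ω) (hcop : k.Coprime (Fintype.card Ω)) : False := by
  have : MulAction.IsPretransitive G Ω := MulAction.isPretransitive_of_is_two_pretransitive
  have hnpos : (0 : ℤ) < (Fintype.card Ω : ℤ) := by
    have : 0 < Fintype.card Ω := by omega
    exact_mod_cast this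
  -- row sums
  obtain ⟨r, hr⟩ : ∃ r : ℤ, A * JJ = r • JJ := by
    refine ⟨∑ z, A x₀ z, ?_⟩
    ext x y
    simp only [Matrix.mul_apply, JJ_apply, mul_one, Matrix.smul_apply, smul_eq_mul]
    obtain ⟨g, rfl⟩ := MulAction.exists_smul_eq G x₀ x
    have hg : g = β (β⁻¹ g) := (MulAut.apply_inv_self ..).symm
    rw [hg]
    refine (Fintype.sum_equiv (MulAction.toPerm (β⁻¹ g)) _ _ ?_).symm
    intro z
    simp only [MulAction.toPerm_apply]
    rw [hA]
  have hrk : r = k := by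
    have h1 : JJ * A * JJ = ((k : ℤ) * (Fintype.card Ω : ℤ)) • JJ := by
      rw [hJA, Matrix.smul_mul, JJ_mul_JJ, smul_smul]
    have h2 : JJ * A * JJ = (r * (Fintype.card Ω : ℤ)) • JJ := by
      rw [Matrix.mul_assoc, hr, Matrix.mul_smul, JJ_mul_JJ, smul_smul]
    have h3 := congrFun (congrFun (h1.symm.trans h2) x₀) x₀
    simp only [Matrix.smul_apply, JJ_apply, smul_eq_mul, mul_one] at h3
    exact (mul_right_cancel₀ hnpos.ne' h3).symm
  subst hrk
  have hBJ : Aᵀ * JJ = (k : ℤ) • JJ := by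
    have := congrArg Matrix.transpose hJA
    rwa [Matrix.transpose_mul, JJ_transpose, Matrix.transpose_smul, JJ_transpose] at this
  have hJB : JJ * Aᵀ = (k : ℤ) • JJ := by
    have := congrArg Matrix.transpose hr
    rwa [Matrix.transpose_mul, JJ_transpose, Matrix.transpose_smul, JJ_transpose] at this
  -- A * Aᵀ
  have hAB0 : TInv (1 : MulAut G) (A * Aᵀ) := by
    have := hA.mul hA.transpose
    rwa [mul_inv_cancel] at this
  have hAB := hAB0.eq_of_one h2 hne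
  have hdiag : (A * Aᵀ) x₀ x₀ = k := by
    have h1 : (A * Aᵀ) x₀ x₀ = ∑ z, A x₀ z := by
      simp only [Matrix.mul_apply, Matrix.transpose_apply]
      refine Finset.sum_congr rfl fun z _ => ?_
      rcases h01 x₀ z with h | h <;> rw [h] <;> norm_num
    have h3 := congrFun (congrFun hr x₀) x₀
    simp only [Matrix.mul_apply, JJ_apply, mul_one, Matrix.smul_apply, smul_eq_mul] at h3
    rw [h1, h3]
  obtain ⟨l, hl⟩ : ∃ l : ℤ, l = (A * Aᵀ) x₀ y₀ := ⟨_, rfl⟩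
  obtain ⟨c, hcdef⟩ : ∃ c : ℤ, c = (k : ℤ) - l := ⟨_, rfl⟩
  rw [hdiag, ← hl, ← hcdef] at hAB
  -- c + l n = k^2
  have hcl : c + l * (Fintype.card Ω : ℤ) = (k : ℤ) ^ 2 := by
    have h1 : A * Aᵀ * JJ = ((k : ℤ) * k) • JJ := by
      rw [Matrix.mul_assoc, hBJ, Matrix.mul_smul, hr, smul_smul]
    have h2 : A * Aᵀ * JJ = (c + l * (Fintype.card Ω : ℤ)) • JJ := by
      rw [hAB, Matrix.add_mul, Matrix.smul_mul, Matrix.smul_mul, Matrix.one_mul, JJ_mul_JJ, smul_smul,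
        ← add_smul]
    have h3 := congrFun (congrFun (h2.symm.trans h1) x₀) x₀
    simp only [Matrix.smul_apply, JJ_apply, smul_eq_mul, mul_one] at h3
    rw [h3]; ring
  have hc : c * ((Fintype.card Ω : ℤ) - 1) = k * ((Fintype.card Ω : ℤ) - k) := by
    rw [hcdef] at hcl ⊢
    linear_combination (-1 : ℤ) * hcl
  -- A^m
  have hAm0 : TInv (1 : MulAut G) (A ^ (2 * h + 1)) := by
    have := hA.pow (2 * h + 1)
    rwa [hβ] at this
  have hAm := hAm0.eq_of_one h2 hne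
  obtain ⟨b, hb⟩ : ∃ b : ℤ, b = (A ^ (2 * h + 1)) x₀ y₀ := ⟨_, rfl⟩
  obtain ⟨a, hadef⟩ : ∃ a : ℤ, a = (A ^ (2 * h + 1)) x₀ x₀ - b := ⟨_, rfl⟩
  rw [← hb, ← hadef] at hAm
  have hBm : Aᵀ ^ (2 * h + 1) = a • (1 : Matrix Ω Ω ℤ) + b • JJ := by
    rw [← Matrix.transpose_pow, hAm, Matrix.transpose_add, Matrix.transpose_smul,
      Matrix.transpose_smul, Matrix.transpose_one, JJ_transpose]
  obtain ⟨lm, hlm⟩ := pow_mul_pow hr hJB hAB (2 * h + 1)
  have ha : a ^ 2 = c ^ (2 * h + 1) := by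
    rw [hAm, hBm, SS_mul_SS] at hlm
    have e1 := congrFun (congrFun hlm x₀) x₀
    have e2 := congrFun (congrFun hlm x₀) y₀
    simp only [Matrix.add_apply, Matrix.smul_apply, Matrix.one_apply, JJ_apply, smul_eq_mul, mul_one,
      if_true, if_neg hne, mul_zero, zero_add] at e1 e2
    linear_combination e1 - e2
  obtain ⟨lh, hlh⟩ := pow_mul_pow hr hJB hAB (h + 1)
  have key : c ^ (h + 1) • Aᵀ ^ h + (lh * (k : ℤ) ^ h) • JJ
      = a • A ^ (h + 1) + (b * (k : ℤ) ^ (h + 1)) • JJ := by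
    have e1 : A ^ (h + 1) * Aᵀ ^ (2 * h + 1) = (A ^ (h + 1) * Aᵀ ^ (h + 1)) * Aᵀ ^ h := by
      rw [Matrix.mul_assoc, ← pow_add]
      congr 2
      ring
    rw [hlh, hBm] at e1
    rw [Matrix.mul_add, Matrix.mul_smul, Matrix.mul_one, Matrix.mul_smul, pow_mul_JJ hr,
      Matrix.add_mul, Matrix.smul_mul, Matrix.one_mul, Matrix.smul_mul, JJ_mul_pow hJB, smul_smul,
      smul_smul] at e1
    exact e1.symm
  have hent := congrFun (congrFun key x₀) y₀
  simp only [Matrix.add_apply, Matrix.smul_apply, JJ_apply, smul_eq_mul, mul_one] at hent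
  have hrow : c ^ (h + 1) * (k : ℤ) ^ h + lh * (k : ℤ) ^ h * (Fintype.card Ω : ℤ)
      = a * (k : ℤ) ^ (h + 1) + b * (k : ℤ) ^ (h + 1) * (Fintype.card Ω : ℤ) := by
    have e := congrArg (· * (JJ : Matrix Ω Ω ℤ)) key
    simp only [Matrix.add_mul, Matrix.smul_mul, pow_mul_JJ hBJ, pow_mul_JJ hr, JJ_mul_JJ, smul_smul,
      ← add_smul] at e
    have e3 := congrFun (congrFun e x₀) x₀
    simp only [Matrix.smul_apply, JJ_apply, smul_eq_mul, mul_one] at e3
    exact e3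
  exact nt_false (Fintype.card Ω) k h c a (b * (k : ℤ) ^ (h + 1) - lh * (k : ℤ) ^ h)
    ((Aᵀ ^ h) x₀ y₀) ((A ^ (h + 1)) x₀ y₀) hk2 hkn hcop hc ha
    (by linear_combination hent) (by linear_combination hrow)

end Alg

end Cfsg.Agent.Lib.H4.AutPerm
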