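import Cfsg.Agent.Lib.H4.AutPerm.Alg

/-!
# Odd-order automorphisms of 2-transitive groups

The incidence matrix of the structure (points, twisted blocks) and the conclusion that the image of
a point stabiliser under an odd-order automorphism with an orbit of length coprime to the degree
is a point stabiliser.
-/

namespace Cfsg.Agent.Lib.H4.AutPerm

open Matrix MulAction

variable {G Ω : Type*} [Group G] [MulAction G Ω] [Fintype Ω] [DecidableEq Ω]

open Classical in
/-- incidence matrix: `x` lies in the block attached to `y` -/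
noncomputable def incMat (o : Ω) (α : MulAut G) (Δ : Set Ω) : Matrix Ω Ω ℤ :=
  Matrix.of fun x y => if ∃ g : G, g • y = o ∧ (α g) • x ∈ Δ then 1 else 0

omit [Fintype Ω] [DecidableEq Ω] in
theorem incMat_01 (o : Ω) (α : MulAut G) (Δ : Set Ω) (x y : Ω) :
    incMat o α Δ x y = 0 ∨ incMat o α Δ x y = 1 := by
  unfold incMat
  simp only [Matrix.of_apply]
  split_ifs
  · right; rfl
  · left; rfl

omit [Fintype Ω] [DecidableEq Ω] in
theorem incMat_tinv (o : Ω) (α : MulAut G) (Δ : Set Ω) : TInv α (incMat o α Δ) := by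
  classical
  intro u x y
  unfold incMat
  simp only [Matrix.of_apply]
  have : (∃ g : G, g • u • y = o ∧ (α g) • (α u) • x ∈ Δ) ↔ (∃ g : G, g • y = o ∧ (α g) • x ∈ Δ) := by
    constructor
    · rintro ⟨g, h1, h2⟩
      refine ⟨g * u, by rwa [mul_smul], ?_⟩
      rwa [map_mul, mul_smul]
    · rintro ⟨g, h1, h2⟩
      refine ⟨g * u⁻¹, by rwa [mul_smul, inv_smul_smul], ?_⟩
      rwa [map_mul, mul_smul, map_inv, inv_smul_smul]
  exact if_congr this rfl rfl

omit [DecidableEq Ω] in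
theorem incMat_colsum [IsPretransitive G Ω] (o : Ω) (α : MulAut G) (Δ : Set Ω)
    (hΔ : ∀ u ∈ stabilizer G o, ∀ x, (α u) • x ∈ Δ ↔ x ∈ Δ) :
    JJ * incMat o α Δ = (Nat.card Δ : ℤ) • JJ := by
  classical
  ext x y
  simp only [Matrix.mul_apply, JJ_apply, one_mul, Matrix.smul_apply, smul_eq_mul, mul_one]
  obtain ⟨g₀, hg₀⟩ := exists_smul_eq G y o
  have hcond : ∀ z, (∃ g : G, g • y = o ∧ (α g) • z ∈ Δ) ↔ (α g₀) • z ∈ Δ := by
    intro z
    constructor
    · rintro ⟨g, h1, h2⟩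
      have hu : g₀ * g⁻¹ ∈ stabilizer G o := by
        rw [mem_stabilizer_iff, mul_smul, ← h1, inv_smul_smul, hg₀, h1]
      have := (hΔ _ hu ((α g) • z)).2 h2
      rwa [← mul_smul, ← map_mul, mul_assoc, inv_mul_cancel, mul_one] at this
    · intro h
      exact ⟨g₀, hg₀, h⟩
  unfold incMat
  simp only [Matrix.of_apply, hcond]
  rw [Finset.sum_boole]
  norm_cast
  rw [← Fintype.card_subtype, ← Nat.card_eq_fintype_card]
  exact Nat.card_congr (Equiv.subtypeEquiv (MulAction.toPerm (α g₀)) (fun z => Iff.rfl))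

/-- orbit-length dichotomy -/
theorem card_cases (h2 : IsMultiplyPretransitive G Ω 2) (o : Ω) (α : MulAut G)
    (hα : Odd (orderOf α)) (Δ : Set Ω)
    (hΔ : ∀ u ∈ stabilizer G o, ∀ x, (α u) • x ∈ Δ ↔ x ∈ Δ)
    (hcop : (Nat.card Δ).Coprime (Fintype.card Ω)) :
    Nat.card Δ ≤ 1 ∨ Fintype.card Ω ≤ Nat.card Δ + 1 := by
  by_contra hcon
  push Not at hcon
  obtain ⟨hk2, hkn⟩ := hcon
  have : IsPretransitive G Ω := isPretransitive_of_is_two_pretransitive
  have hcard : 1 < Fintype.card Ω := by omega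
  obtain ⟨x₀, y₀, hne⟩ := Fintype.exists_pair_of_one_lt_card hcard
  obtain ⟨h, hh⟩ := hα
  have hβ : α ^ (2 * h + 1) = 1 := by rw [← hh]; exact pow_orderOf_eq_one α
  exact main_false h2 hne α h hβ (incMat o α Δ) (incMat_tinv o α Δ) (Nat.card Δ)
    (incMat_colsum o α Δ hΔ) (incMat_01 o α Δ) (by omega) (by omega) hcop

end Cfsg.Agent.Lib.H4.AutPerm
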