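import Mathlib

/-!
# Twisted-invariant integer matrices for a 2-transitive action

`TInv β M` : `M (β g • x) (g • y) = M x y`.  Products, transposes, powers; a matrix invariant for
the trivial twist is a combination of `1` and the all-ones matrix `JJ`.
-/

namespace Cfsg.Agent.Lib.H4.AutPerm

open Matrix

variable {G Ω : Type*} [Group G] [MulAction G Ω] [Fintype Ω] [DecidableEq Ω]

/-- twisted invariance of an integer matrix -/
def TInv (β : MulAut G) (M : Matrix Ω Ω ℤ) : Prop :=
  ∀ (g : G) (x y : Ω), M ((β g) • x) (g • y) = M x y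

/-- the all-ones matrix -/
def JJ : Matrix Ω Ω ℤ := Matrix.of fun _ _ => 1

omit [DecidableEq Ω] [Group G] [MulAction G Ω] [Fintype Ω] in
@[simp] theorem JJ_apply (x y : Ω) : (JJ : Matrix Ω Ω ℤ) x y = 1 := rfl

omit [DecidableEq Ω] [Group G] [MulAction G Ω] [Fintype Ω] in
theorem JJ_transpose : (JJ : Matrix Ω Ω ℤ)ᵀ = JJ := by
  ext x y; simp [Matrix.transpose_apply]

omit [DecidableEq Ω] in
theorem TInv.mul {β γ : MulAut G} {M N : Matrix Ω Ω ℤ} (hM : TInv β M) (hN : TInv γ N) :
    TInv (β * γ) (M * N) := by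
  intro g x z
  simp only [Matrix.mul_apply, MulAut.mul_apply]
  refine (Fintype.sum_equiv (MulAction.toPerm (γ g)) _ _ ?_).symm
  intro y
  simp only [MulAction.toPerm_apply]
  rw [hM (γ g) x y, hN g y z]

omit [DecidableEq Ω] [Fintype Ω] in
theorem TInv.transpose {β : MulAut G} {M : Matrix Ω Ω ℤ} (hM : TInv β M) :
    TInv β⁻¹ Mᵀ := by
  intro g x y
  simp only [Matrix.transpose_apply]
  have := hM (β⁻¹ g) y x
  rwa [MulAut.apply_inv_self] at this

omit [Fintype Ω] in
theorem TInv.one : TInv (1 : MulAut G) (1 : Matrix Ω Ω ℤ) := by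
  intro g x y
  simp only [MulAut.one_apply, Matrix.one_apply, smul_left_cancel_iff]

theorem TInv.pow {β : MulAut G} {M : Matrix Ω Ω ℤ} (hM : TInv β M) (j : ℕ) :
    TInv (β ^ j) (M ^ j) := by
  induction j with
  | zero => simpa using TInv.one
  | succ j ih => rw [pow_succ, pow_succ]; exact ih.mul hM

omit [Fintype Ω] in
/-- an untwisted invariant matrix of a 2-transitive action is `a • 1 + b • JJ` -/
theorem TInv.eq_of_one (h2 : MulAction.IsMultiplyPretransitive G Ω 2) {M : Matrix Ω Ω ℤ}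
    (hM : TInv (1 : MulAut G) M) {x₀ y₀ : Ω} (hne : x₀ ≠ y₀) :
    M = (M x₀ x₀ - M x₀ y₀) • (1 : Matrix Ω Ω ℤ) + (M x₀ y₀) • JJ := by
  have h2' : ∀ {a b c d : Ω}, a ≠ b → c ≠ d → ∃ g : G, g • a = c ∧ g • b = d :=
    fun h h' => (MulAction.is_two_pretransitive_iff (G := G) (α := Ω)).1 h2 h h'
  ext x y
  simp only [Matrix.add_apply, Matrix.smul_apply, Matrix.one_apply, JJ_apply, smul_eq_mul]
  by_cases hxy : x = y
  · subst hxy
    obtain ⟨g, hg, -⟩ := h2' hne (show x ≠ (if x = x₀ then y₀ else x₀) by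
      split_ifs with h
      · rw [h]; exact hne
      · exact h)
    have := hM g x₀ x₀
    simp only [MulAut.one_apply, hg] at this
    simp [this]
  · obtain ⟨g, hg, hg'⟩ := h2' hne hxy
    have := hM g x₀ y₀
    simp only [MulAut.one_apply, hg, hg'] at this
    simp [this, hxy]

end Cfsg.Agent.Lib.H4.AutPerm
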