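import Cfsg.Agent.Lib.H4.AutPerm.Solv

/-!
# Automorphisms normalising / centralising a cyclic Sylow subgroup
-/

namespace Cfsg.Agent.Lib.H4.AutPerm

open scoped commutatorElement Pointwise
open MulAction

variable {G : Type*} [Group G]

/-- automorphisms stabilising the cyclic subgroup generated by `c` -/
def normAut (c : G) : Subgroup (MulAut G) := stabilizer (MulAut G) (Subgroup.zpowers c)

/-- automorphisms fixing `c` -/
def fixAut (c : G) : Subgroup (MulAut G) := stabilizer (MulAut G) c

theorem mem_fixAut {c : G} {γ : MulAut G} : γ ∈ fixAut c ↔ γ c = c := by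
  rw [fixAut, mem_stabilizer_iff, MulAut.smul_def]

theorem mem_normAut {c : G} {β : MulAut G} : β ∈ normAut c ↔ β • Subgroup.zpowers c = Subgroup.zpowers c := by
  rw [normAut, mem_stabilizer_iff]

theorem apply_mem_of_mem_normAut {c : G} {β : MulAut G} (hβ : β ∈ normAut c) {q : G}
    (hq : q ∈ Subgroup.zpowers c) : β q ∈ Subgroup.zpowers c := by
  have h1 : β • q ∈ β • Subgroup.zpowers c := Subgroup.smul_mem_pointwise_smul _ _ _ hq
  rw [mem_normAut.1 hβ] at h1
  exact h1

theorem normAut_comm {c : G} {x y : MulAut G} (hx : x ∈ normAut c) (hy : y ∈ normAut c) {q : G}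
    (hq : q ∈ Subgroup.zpowers c) : x (y q) = y (x q) := by
  obtain ⟨i, hi⟩ := apply_mem_of_mem_normAut hx (Subgroup.mem_zpowers c)
  obtain ⟨j, hj⟩ := apply_mem_of_mem_normAut hy (Subgroup.mem_zpowers c)
  obtain ⟨t, rfl⟩ := hq
  have hxc : x c = c ^ i := hi.symm
  have hyc : y c = c ^ j := hj.symm
  simp only [map_zpow, hxc, hyc, ← zpow_mul]
  congr 1
  ring

theorem commutator_mem_fixAut {c : G} {x y : MulAut G} (hx : x ∈ normAut c) (hy : y ∈ normAut c) :
    ⁅x, y⁆ ∈ fixAut c := by
  rw [mem_fixAut, commutatorElement_def]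
  simp only [MulAut.mul_apply]
  have hyi := (normAut c).inv_mem hy
  have hxi := (normAut c).inv_mem hx
  have hq : y⁻¹ c ∈ Subgroup.zpowers c := apply_mem_of_mem_normAut hyi (Subgroup.mem_zpowers c)
  rw [normAut_comm hy hxi hq, MulAut.apply_inv_self, MulAut.apply_inv_self]

theorem conj_conj (γ : MulAut G) (g : G) : γ * MulAut.conj g * γ⁻¹ = MulAut.conj (γ g) := by
  ext h
  simp only [MulAut.mul_apply, MulAut.conj_apply, map_mul, map_inv, MulAut.apply_inv_self]

theorem fixAut_solvable [Finite G] (c : G)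
    (hK : ∀ γ : MulAut G, Odd (orderOf γ) → γ c = c → γ ∈ Subgroup.zpowers (MulAut.conj c)) :
    Group.IsSolvable (fixAut c) := by
  set Z := Subgroup.zpowers (MulAut.conj c) with hZ
  have hnorm : ((Z.subgroupOf (fixAut c))).Normal := by
    constructor
    intro z hz γ
    rw [Subgroup.mem_subgroupOf] at hz ⊢
    obtain ⟨i, hi⟩ := hz
    have hγ : (γ : MulAut G) c = c := mem_fixAut.1 γ.2
    have : ((γ * z * γ⁻¹ : fixAut c) : MulAut G) = (z : MulAut G) := by
      simp only [Subgroup.coe_mul, Subgroup.coe_inv]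
      rw [← hi]
      simp only
      rw [← map_zpow, conj_conj, map_zpow, hγ]
    rw [this]
    exact ⟨i, hi⟩
  have hsolv : Group.IsSolvable (Z.subgroupOf (fixAut c)) := by
    let f : Z.subgroupOf (fixAut c) →* Z :=
      { toFun := fun x => ⟨((x : fixAut c) : MulAut G), Subgroup.mem_subgroupOf.1 x.2⟩
        map_one' := rfl
        map_mul' := fun _ _ => rfl }
    have hf : Function.Injective f := by
      intro x y hxy
      have h1 : ((x : fixAut c) : MulAut G) = ((y : fixAut c) : MulAut G) :=
        congrArg (fun z : Z => (z : MulAut G)) hxy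
      exact Subtype.ext (Subtype.ext h1)
    exact Group.isSolvable_of_isSolvable_injective hf
  refine solvable_of_odd_mem (Z.subgroupOf (fixAut c)) ?_
  intro γ hγ
  rw [Subgroup.mem_subgroupOf]
  rw [← Subgroup.orderOf_coe] at hγ
  exact hK _ hγ (mem_fixAut.1 γ.2)

theorem normAut_solvable [Finite G] (c : G)
    (hK : ∀ γ : MulAut G, Odd (orderOf γ) → γ c = c → γ ∈ Subgroup.zpowers (MulAut.conj c)) :
    Group.IsSolvable (normAut c) := by
  have := fixAut_solvable c hK
  exact solvable_of_commutator_mem (normAut c) (fixAut c)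
    (fun x hx y hy => commutator_mem_fixAut hx hy)

end Cfsg.Agent.Lib.H4.AutPerm
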