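import Cfsg.Agent.Lib.H4.AutPerm.Main

/-!
# From the orbit-length dichotomy to a permutation inducing the automorphism
-/

namespace Cfsg.Agent.Lib.H4.AutPerm

open MulAction

section Equivariant

variable {G Ω : Type*} [Group G] [MulAction G Ω]

/-- an automorphism mapping a point stabiliser onto a point stabiliser of a transitive action is
induced by a permutation of the points -/
theorem exists_equivariant [IsPretransitive G Ω] (α : MulAut G) (o ω' : Ω)
    (hstab : (stabilizer G o).map α.toMonoidHom = stabilizer G ω') :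
    ∃ σ : Equiv.Perm Ω, ∀ (g : G) (x : Ω), σ (g • x) = α g • σ x := by
  classical
  have hmem : ∀ u : G, u ∈ stabilizer G o ↔ α u ∈ stabilizer G ω' := by
    intro u
    rw [← hstab, Subgroup.mem_map]
    constructor
    · intro hu; exact ⟨u, hu, rfl⟩
    · rintro ⟨v, hv, hvu⟩
      have : v = u := α.injective hvu
      rwa [← this]
  choose c hc using fun y : Ω => exists_smul_eq G o y
  choose d hd using fun y : Ω => exists_smul_eq G ω' y
  have hf : ∀ g : G, α (c (g • o)) • ω' = α g • ω' := by
    intro g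
    have h1 : g⁻¹ * c (g • o) ∈ stabilizer G o := by
      rw [mem_stabilizer_iff, mul_smul, hc, inv_smul_smul]
    have h2 := (hmem _).1 h1
    rw [mem_stabilizer_iff, map_mul, mul_smul, map_inv, inv_smul_eq_iff] at h2
    exact h2
  have hf' : ∀ g : G, α⁻¹ (d (g • ω')) • o = α⁻¹ g • o := by
    intro g
    have h1 : g⁻¹ * d (g • ω') ∈ stabilizer G ω' := by
      rw [mem_stabilizer_iff, mul_smul, hd, inv_smul_smul]
    have h2 : α⁻¹ (g⁻¹ * d (g • ω')) ∈ stabilizer G o := by
      rw [hmem, MulAut.apply_inv_self]; exact h1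
    rw [mem_stabilizer_iff, map_mul, mul_smul, map_inv, inv_smul_eq_iff] at h2
    exact h2
  refine ⟨⟨fun y => α (c y) • ω', fun y => α⁻¹ (d y) • o, ?_, ?_⟩, ?_⟩
  · intro y
    show α⁻¹ (d (α (c y) • ω')) • o = y
    rw [hf', MulAut.inv_apply_self, hc]
  · intro y
    show α (c (α⁻¹ (d y) • o)) • ω' = y
    rw [hf, MulAut.apply_inv_self, hd]
  · intro g x
    show α (c (g • x)) • ω' = α g • α (c x) • ω'
    conv_lhs => rw [← hc x, ← mul_smul]
    rw [hf, map_mul, mul_smul]

end Equivariant

section Fix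

variable {G Ω : Type*} [Group G] [MulAction G Ω] [Fintype Ω]

/-- a subgroup with an orbit of length `1` or `n - 1` fixes a point -/
theorem exists_fixed (H : Subgroup G) (ω : Ω)
    (hk : Nat.card (orbit H ω) ≤ 1 ∨ Fintype.card Ω = Nat.card (orbit H ω) + 1) :
    ∃ ω' : Ω, H ≤ stabilizer G ω' := by
  classical
  rcases hk with hk | hk
  · refine ⟨ω, fun h hh => ?_⟩
    have hsub : Subsingleton (orbit H ω) := Finite.card_le_one_iff_subsingleton.1 hk
    have h1 : (⟨h, hh⟩ : H) • ω ∈ orbit H ω := mem_orbit _ _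
    have h2 : ω ∈ orbit H ω := mem_orbit_self _
    have := congrArg Subtype.val (hsub.elim ⟨_, h1⟩ ⟨_, h2⟩)
    exact this
  · -- complement is a single point
    have hcompl : Nat.card ((orbit H ω)ᶜ : Set Ω) = 1 := by
      have h1 := Set.ncard_add_ncard_compl (orbit H ω)
      rw [Nat.card_coe_set_eq, Nat.card_eq_fintype_card] at *
      omega
    rw [Nat.card_eq_one_iff_unique] at hcompl
    obtain ⟨hsub, ⟨ω', hω'⟩⟩ := hcompl
    refine ⟨ω', fun h hh => ?_⟩
    have h1 : h • ω' ∈ (orbit H ω)ᶜ := by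
      intro hcon
      apply hω'
      have h3 : h • ω' = (⟨h, hh⟩ : H) • ω' := rfl
      rw [h3] at hcon
      have h4 := mem_orbit_of_mem_orbit (⟨h, hh⟩ : H)⁻¹ hcon
      rwa [inv_smul_smul] at h4
    have := congrArg Subtype.val (hsub.elim ⟨_, h1⟩ ⟨_, hω'⟩)
    exact this

end Fix

section Thm

variable {G Ω : Type*} [Group G] [Finite G] [MulAction G Ω] [Fintype Ω]

/-- main theorem, abstract action form -/
theorem stabilizer_map_eq (h2 : IsMultiplyPretransitive G Ω 2) (o : Ω) (α : MulAut G)
    (hα : Odd (orderOf α)) (ω : Ω)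
    (hk : (Nat.card (orbit ((stabilizer G o).map α.toMonoidHom) ω)).Coprime (Fintype.card Ω)) :
    (∃ ω' : Ω, (stabilizer G o).map α.toMonoidHom = stabilizer G ω') ∧
      (Nat.card (orbit ((stabilizer G o).map α.toMonoidHom) ω) = 1 ∨
        Nat.card (orbit ((stabilizer G o).map α.toMonoidHom) ω) = Fintype.card Ω - 1) := by
  classical
  have : IsPretransitive G Ω := isPretransitive_of_is_two_pretransitive
  set H := (stabilizer G o).map α.toMonoidHom with hH
  have hΔ : ∀ u ∈ stabilizer G o, ∀ x, (α u) • x ∈ orbit H ω ↔ x ∈ orbit H ω := by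
    intro u hu x
    have hmem : α u ∈ H := ⟨u, hu, rfl⟩
    have e : (α u) • x = (⟨α u, hmem⟩ : H) • x := rfl
    rw [e]
    constructor
    · intro h
      have := mem_orbit_of_mem_orbit (⟨α u, hmem⟩ : H)⁻¹ h
      rwa [inv_smul_smul] at this
    · intro h
      exact mem_orbit_of_mem_orbit _ h
  have hcases := card_cases h2 o α hα (orbit H ω) hΔ hk
  have hpos : 0 < Nat.card (orbit H ω) := by
    have : Nonempty (orbit H ω) := ⟨⟨ω, mem_orbit_self _⟩⟩
    exact Nat.card_pos
  have hle : Nat.card (orbit H ω) ≤ Fintype.card Ω := by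
    rw [← Nat.card_eq_fintype_card]
    exact Nat.card_le_card_of_injective _ Subtype.val_injective
  have hcases' : Nat.card (orbit H ω) ≤ 1 ∨ Fintype.card Ω = Nat.card (orbit H ω) + 1 := by
    rcases hcases with h | h
    · exact Or.inl h
    · rcases Nat.lt_or_ge (Nat.card (orbit H ω)) (Fintype.card Ω) with h' | h'
      · right; omega
      · left
        have he : Nat.card (orbit H ω) = Fintype.card Ω := le_antisymm hle h'
        rw [he, Nat.coprime_self] at hk
        omega
  refine ⟨?_, ?_⟩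
  · obtain ⟨ω', hω'⟩ := exists_fixed H ω hcases'
    refine ⟨ω', Subgroup.eq_of_le_of_card_ge hω' ?_⟩
    obtain ⟨g, rfl⟩ := exists_smul_eq G o ω'
    rw [stabilizer_smul_eq_stabilizer_map_conj, hH,
      Subgroup.card_map_of_injective (MulAut.conj g).injective,
      Subgroup.card_map_of_injective α.injective]
  · rcases hcases' with h | h
    · left; omega
    · right; omega

end Thm

section Concrete

variable {Ω : Type*}

/-- the concrete statement for permutation groups -/
theorem exists_perm (G : Subgroup (Equiv.Perm Ω)) (α : MulAut G) (o ω' : Ω)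
    (hstab : (stabilizer G o).map α.toMonoidHom = stabilizer G ω')
    [IsPretransitive G Ω] :
    ∃ σ : Equiv.Perm Ω, σ ∈ Subgroup.normalizer (G : Set (Equiv.Perm Ω)) ∧
      ∀ g : G, ((α g : G) : Equiv.Perm Ω) = σ * (g : Equiv.Perm Ω) * σ⁻¹ := by
  obtain ⟨σ, hσ⟩ := exists_equivariant α o ω' hstab
  have hconj : ∀ g : G, ((α g : G) : Equiv.Perm Ω) = σ * (g : Equiv.Perm Ω) * σ⁻¹ := by
    intro g
    ext x
    have := hσ g (σ⁻¹ x)
    rw [Equiv.Perm.inv_def, Equiv.apply_symm_apply] at this
    simp only [Equiv.Perm.coe_mul, Function.comp_apply, Equiv.Perm.inv_def]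
    exact this.symm
  refine ⟨σ, ?_, hconj⟩
  rw [Subgroup.mem_normalizer_iff]
  intro p
  constructor
  · intro hp
    have := hconj ⟨p, hp⟩
    simp only at this
    rw [← this]
    exact (α ⟨p, hp⟩).2
  · intro hp
    have := hconj (α⁻¹ ⟨_, hp⟩)
    rw [MulAut.apply_inv_self] at this
    simp only at this
    have h3 : p = ((α⁻¹ ⟨_, hp⟩ : G) : Equiv.Perm Ω) := by
      have h4 := congrArg (fun q => σ⁻¹ * q * σ) this
      simp only [mul_assoc, inv_mul_cancel, mul_one, inv_mul_cancel_left] at h4
      exact h4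
    rw [h3]
    exact (α⁻¹ ⟨_, hp⟩).2

end Concrete

end Cfsg.Agent.Lib.H4.AutPerm
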