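import Cfsg.Agent.Lib.H4.AutPerm.NormAut
import Cfsg.Agent.S4290
import Cfsg.Agent.S0675

/-!
# A simple group with a subgroup of prime index has solvable outer automorphism group
-/

namespace Cfsg.Agent.Lib.H4.AutPerm

open scoped commutatorElement Pointwise
open MulAction

section Frattini

variable {G : Type*} [Group G] [Finite G]

/-- Frattini: if `c` has prime order `p` and `p ^ 2` does not divide the order, then every
automorphism is an inner one times one stabilising `⟨c⟩`. -/
theorem exists_conj_mul_mem_normAut (p : ℕ) [Fact p.Prime] (c : G) (hc : orderOf c = p)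
    (hp2 : ¬ p ^ 2 ∣ Nat.card G) (α : MulAut G) :
    ∃ g : G, (MulAut.conj g)⁻¹ * α ∈ normAut c := by
  have hp : p.Prime := Fact.out
  have hcard0 : Nat.card G ≠ 0 := Nat.card_pos.ne'
  have hfac : (Nat.card G).factorization p = 1 := by
    have h1 : 1 ≤ (Nat.card G).factorization p := by
      rw [← hp.pow_dvd_iff_le_factorization hcard0, pow_one, ← hc]
      exact orderOf_dvd_natCard c
    have h2 : ¬ 2 ≤ (Nat.card G).factorization p := by
      rw [← hp.pow_dvd_iff_le_factorization hcard0]
      exact hp2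
    omega
  -- every subgroup of order p is a Sylow subgroup
  have hsyl : ∀ d : G, orderOf d = p → ∃ Q : Sylow p G, (Q : Subgroup G) = Subgroup.zpowers d := by
    intro d hd
    have hpg : IsPGroup p (Subgroup.zpowers d) := by
      apply IsPGroup.of_card (n := 1)
      rw [Nat.card_zpowers, hd, pow_one]
    obtain ⟨Q, hQ⟩ := hpg.exists_le_sylow
    refine ⟨Q, (Subgroup.eq_of_le_of_card_ge hQ ?_).symm⟩
    rw [Sylow.card_eq_multiplicity, hfac, pow_one, Nat.card_zpowers, hd]
  obtain ⟨Q, hQ⟩ := hsyl c hc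
  obtain ⟨Q', hQ'⟩ := hsyl (α c) (by rw [← hc]; exact orderOf_injective α.toMonoidHom α.injective c)
  obtain ⟨g, hg⟩ := exists_smul_eq G Q Q'
  refine ⟨g, ?_⟩
  rw [mem_normAut, mul_smul]
  have h1 : α • Subgroup.zpowers c = Subgroup.zpowers (α c) := by
    ext q
    rw [Subgroup.mem_pointwise_smul_iff_inv_smul_mem, MulAut.smul_def]
    constructor
    · rintro ⟨i, hi⟩
      refine ⟨i, ?_⟩
      simp only at hi ⊢
      rw [← map_zpow, hi, MulAut.apply_inv_self]
    · rintro ⟨i, hi⟩
      refine ⟨i, ?_⟩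
      simp only at hi ⊢
      rw [← hi, ← map_zpow, MulAut.inv_apply_self]
  have h2 : MulAut.conj g • (Q : Subgroup G) = (Q' : Subgroup G) := by
    rw [← hg, Sylow.smul_def, Sylow.pointwise_smul_def]
  rw [h1, ← hQ', ← h2, inv_smul_smul, hQ]

/-- the quotient of the automorphism group by a normal subgroup containing the inner
automorphisms is solvable as soon as `normAut c` is -/
theorem quotient_solvable (p : ℕ) [Fact p.Prime] (c : G) (hc : orderOf c = p)
    (hp2 : ¬ p ^ 2 ∣ Nat.card G)
    (hK : ∀ γ : MulAut G, Odd (orderOf γ) → γ c = c → γ ∈ Subgroup.zpowers (MulAut.conj c))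
    (N : Subgroup (MulAut G)) [N.Normal] (hN : (MulAut.conj : G →* MulAut G).range ≤ N) :
    Group.IsSolvable (MulAut G ⧸ N) := by
  have := normAut_solvable c hK
  refine Group.isSolvable_of_surjective
    (f := (QuotientGroup.mk' N).comp (normAut c).subtype) ?_
  intro q
  obtain ⟨α, rfl⟩ := QuotientGroup.mk_surjective q
  obtain ⟨g, hg⟩ := exists_conj_mul_mem_normAut p c hc hp2 α
  refine ⟨⟨_, hg⟩, ?_⟩
  simp only [MonoidHom.coe_comp, Function.comp_apply, Subgroup.coe_subtype, QuotientGroup.mk'_apply]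
  rw [QuotientGroup.eq]
  have h1 : ((MulAut.conj g)⁻¹ * α)⁻¹ * α = α⁻¹ * MulAut.conj g * α := by group
  rw [h1]
  have h2 : MulAut.conj g ∈ N := hN ⟨g, rfl⟩
  have := ‹N.Normal›.conj_mem _ h2 α⁻¹
  simpa [mul_assoc] using this

end Frattini

section Main

variable {G : Type*} [Group G] [Finite G] [IsSimpleGroup G]

theorem not_sq_dvd_factorial {p : ℕ} (hp : p.Prime) : ¬ p ^ 2 ∣ p.factorial := by
  obtain ⟨k, rfl⟩ : ∃ k, p = k + 1 := ⟨p - 1, by have := hp.pos; omega⟩
  rw [Nat.factorial_succ, pow_two]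
  intro h
  have h1 : (k + 1) ∣ k.factorial := (Nat.mul_dvd_mul_iff_left (Nat.succ_pos k)).1 h
  have := (hp.dvd_factorial).1 h1
  omega

theorem main_nonsolvable (hns : ¬ Group.IsSolvable G) (H : Subgroup G) (hH : H.index.Prime)
    (N : Subgroup (MulAut G)) [N.Normal] (hN : (MulAut.conj : G →* MulAut G).range ≤ N) :
    Group.IsSolvable (MulAut G ⧸ N) := by
  classical
  obtain ⟨p, hp⟩ : ∃ p, p = H.index := ⟨_, rfl⟩
  rw [← hp] at hH
  have : Fact p.Prime := ⟨hH⟩
  have : H.FiniteIndex := ⟨by rw [← hp]; exact hH.ne_zero⟩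
  have : Fintype (G ⧸ H) := Fintype.ofFinite _
  have hcardΩ : Fintype.card (G ⧸ H) = p := by
    rw [← Nat.card_eq_fintype_card, hp]
    exact (Subgroup.index_eq_card H).symm
  let ρ : G →* Equiv.Perm (G ⧸ H) := MulAction.toPermHom G (G ⧸ H)
  have hinj : Function.Injective ρ := by
    rw [← MonoidHom.ker_eq_bot_iff]
    rcases (MonoidHom.normal_ker ρ).eq_bot_or_eq_top with h | h
    · exact h
    · exfalso
      have hHtop : H = ⊤ := by
        rw [Subgroup.eq_top_iff']
        intro g
        have hg : g ∈ ρ.ker := by rw [h]; exact Subgroup.mem_top g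
        have h1 := congrArg (fun f : Equiv.Perm (G ⧸ H) => f ((1 : G) : G ⧸ H))
          (MonoidHom.mem_ker.1 hg)
        simp only [ρ, MulAction.toPermHom_apply, MulAction.toPerm_apply, Equiv.Perm.coe_one, id_eq]
          at h1
        have h2 : ((g * 1 : G) : G ⧸ H) = ((1 : G) : G ⧸ H) := h1
        rw [mul_one, QuotientGroup.eq, mul_one] at h2
        exact (Subgroup.inv_mem_iff H).1 h2
      rw [hHtop, Subgroup.index_top] at hp
      rw [hp] at hH
      exact Nat.not_prime_one hH
  let e : G ≃* ρ.range := MonoidHom.ofInjective hinj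
  have : IsPretransitive ρ.range (G ⧸ H) := by
    constructor
    intro x y
    obtain ⟨g, hg⟩ := exists_smul_eq G x y
    exact ⟨⟨ρ g, ⟨g, rfl⟩⟩, hg⟩
  have hns' : ¬ Group.IsSolvable ρ.range := by
    intro h
    exact hns (Group.isSolvable_of_isSolvable_injective (f := e.toMonoidHom) e.injective)
  have h2 : IsMultiplyPretransitive ρ.range (G ⧸ H) 2 :=
    (Cfsg.Agent.S0675.result (hcardΩ ▸ hH) ρ.range).resolve_left hns'
  -- order considerations
  have hcardG : Nat.card G = Nat.card ρ.range := Nat.card_congr e.toEquiv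
  have hp2 : ¬ p ^ 2 ∣ Nat.card G := by
    intro h
    apply not_sq_dvd_factorial hH
    refine h.trans ?_
    rw [hcardG]
    have := Subgroup.card_subgroup_dvd_card ρ.range
    rwa [Nat.card_eq_fintype_card (α := Equiv.Perm (G ⧸ H)), Fintype.card_perm, hcardΩ] at this
  have hpdvd : p ∣ Nat.card G := by rw [hp]; exact Subgroup.index_dvd_card H
  obtain ⟨c, hc⟩ := exists_prime_orderOf_dvd_card' p hpdvd
  have o : G ⧸ H := ((1 : G) : G ⧸ H)
  have hHall : (Nat.card (stabilizer ρ.range o)).Coprime (stabilizer ρ.range o).index := by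
    have hidx : (stabilizer ρ.range o).index = p := by
      rw [index_stabilizer_of_transitive, Nat.card_eq_fintype_card, hcardΩ]
    rw [hidx]
    apply Nat.Coprime.symm
    rw [hH.coprime_iff_not_dvd]
    intro hdvd
    apply hp2
    rw [hcardG, ← Subgroup.card_mul_index (stabilizer ρ.range o), hidx, pow_two]
    exact Nat.mul_dvd_mul_right hdvd p
  -- the key lemma
  have hK : ∀ γ : MulAut G, Odd (orderOf γ) → γ c = c →
      γ ∈ Subgroup.zpowers (MulAut.conj c) := by
    intro γ hγ hγc
    have hord : orderOf (MulAut.congr e γ) = orderOf γ := MulEquiv.orderOf_eq (MulAut.congr e) γ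
    obtain ⟨σ, -, hσ⟩ := Cfsg.Agent.S4290.result ρ.range h2 o hHall (MulAut.congr e γ)
      (by rw [hord]; exact hγ)
    have hσ' : ∀ g : G, ρ (γ g) = σ * ρ g * σ⁻¹ := by
      intro g
      have h1 := hσ (e g)
      have h3 : (MulAut.congr e γ) (e g) = e (γ g) := by
        simp [MulAut.congr]
      rw [h3] at h1
      exact h1
    have hcomm : Commute σ (ρ c) := by
      have h1 := hσ' c
      rw [hγc] at h1
      show σ * ρ c = ρ c * σ
      conv_rhs => rw [h1]
      group
    have hordc : orderOf (ρ c) = Fintype.card (G ⧸ H) := by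
      rw [orderOf_injective ρ hinj, hc, hcardΩ]
    obtain ⟨i, hi⟩ := mem_zpowers_of_commute (hcardΩ ▸ hH) (ρ c) σ hordc hcomm
    refine ⟨i, ?_⟩
    ext g
    apply hinj
    simp only at hi
    have hz : (MulAut.conj c) ^ i = MulAut.conj (c ^ i) := (map_zpow MulAut.conj c i).symm
    show ρ ((MulAut.conj c ^ i) g) = ρ (γ g)
    rw [hσ', ← hi, hz, MulAut.conj_apply, map_mul, map_mul, map_inv, map_zpow]
  exact quotient_solvable p c hc hp2 hK N hN

end Main

end Cfsg.Agent.Lib.H4.AutPerm
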