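import Mathlib

/-!
# Generic solvability lemmas and the centraliser of a full cycle of prime length
-/

namespace Cfsg.Agent.Lib.H4.AutPerm

open scoped commutatorElement

/-- a finite group with a solvable normal subgroup containing all elements of odd order is
solvable -/
theorem solvable_of_odd_mem {X : Type*} [Group X] [Finite X] (S : Subgroup X) [S.Normal]
    [Group.IsSolvable S] (h : ∀ x : X, Odd (orderOf x) → x ∈ S) : Group.IsSolvable X := by
  have hp : IsPGroup 2 (X ⧸ S) := by
    intro q
    obtain ⟨x, rfl⟩ := QuotientGroup.mk_surjective q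
    have hpos : 0 < orderOf x := orderOf_pos x
    obtain ⟨e, m, hm, hem⟩ := Nat.exists_eq_two_pow_mul_odd hpos.ne'
    refine ⟨e, ?_⟩
    have hodd : Odd (orderOf (x ^ 2 ^ e)) := by
      rw [orderOf_pow' x (pow_ne_zero e two_ne_zero), hem, Nat.gcd_eq_right (dvd_mul_right _ _),
        Nat.mul_div_cancel_left _ (pow_pos two_pos e)]
      exact hm
    have hmem := h _ hodd
    rw [← QuotientGroup.mk_pow]
    exact (QuotientGroup.eq_one_iff _).2 hmem
  have : Fact (Nat.Prime 2) := ⟨Nat.prime_two⟩
  have : Group.IsNilpotent (X ⧸ S) := hp.isNilpotent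
  have : Group.IsSolvable (X ⧸ S) := inferInstance
  refine Group.isSolvable_of_ker_le_range S.subtype (QuotientGroup.mk' S) ?_
  rw [QuotientGroup.ker_mk', Subgroup.range_subtype]

/-- a subgroup whose commutators lie in a solvable subgroup is solvable -/
theorem solvable_of_commutator_mem {A : Type*} [Group A] (K S : Subgroup A) [Group.IsSolvable S]
    (h : ∀ x ∈ K, ∀ y ∈ K, ⁅x, y⁆ ∈ S) : Group.IsSolvable K := by
  let f : S.subgroupOf K →* S :=
    { toFun := fun x => ⟨((x : K) : A), Subgroup.mem_subgroupOf.1 x.2⟩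
      map_one' := rfl
      map_mul' := fun _ _ => rfl }
  have hf : Function.Injective f := by
    intro x y hxy
    have h1 : ((x : K) : A) = ((y : K) : A) := congrArg (fun z : S => (z : A)) hxy
    exact Subtype.ext (Subtype.ext h1)
  have : Group.IsSolvable (S.subgroupOf K) := Group.isSolvable_of_isSolvable_injective hf
  refine Group.isSolvable_of_ker_le_range (S.subgroupOf K).subtype
    (Abelianization.of : K →* Abelianization K) ?_
  rw [Abelianization.ker_of, commutator_eq_closure, Subgroup.range_subtype, Subgroup.closure_le]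
  rintro _ ⟨x, y, rfl⟩
  show ⁅x, y⁆ ∈ S.subgroupOf K
  rw [Subgroup.mem_subgroupOf]
  exact h x x.2 y y.2

/-- a permutation commuting with a permutation of prime order `p` on `p` points is one of its
powers -/
theorem mem_zpowers_of_commute {Ω : Type*} [Fintype Ω] [DecidableEq Ω]
    (hp : (Fintype.card Ω).Prime) (c σ : Equiv.Perm Ω) (hc : orderOf c = Fintype.card Ω)
    (hcomm : Commute σ c) : σ ∈ Subgroup.zpowers c := by
  have hcyc : c.IsCycle := Equiv.Perm.isCycle_of_prime_order'' hp hc
  have hsupp : c.support = Finset.univ := by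
    rw [← Finset.card_eq_iff_eq_univ, ← hcyc.orderOf, hc]
  have hmove : ∀ x : Ω, c x ≠ x := by
    intro x
    rw [← Equiv.Perm.mem_support, hsupp]
    exact Finset.mem_univ x
  have hne : Nonempty Ω := by
    rw [← Fintype.card_pos_iff]
    exact hp.pos
  obtain ⟨a⟩ := hne
  obtain ⟨i, hi⟩ := hcyc.sameCycle (hmove a) (hmove (σ a))
  refine ⟨i, ?_⟩
  ext x
  obtain ⟨j, hj⟩ := hcyc.sameCycle (hmove a) (hmove x)
  have hcj : Commute σ (c ^ j) := hcomm.zpow_right j
  have h1 : σ x = (c ^ j) (σ a) := by
    rw [← hj]
    have := congrArg (fun f : Equiv.Perm Ω => f a) hcj.eq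
    simpa [Equiv.Perm.mul_apply] using this
  show (c ^ i) x = σ x
  rw [h1, ← hi, ← hj, ← Equiv.Perm.mul_apply, ← Equiv.Perm.mul_apply, ← zpow_add, ← zpow_add,
    add_comm]

/-- the outer automorphism group of a commutative simple group is solvable -/
theorem out_solvable_of_comm {G : Type*} [Group G] [IsSimpleGroup G]
    (hcomm : ∀ a b : G, a * b = b * a) (N : Subgroup (MulAut G)) [N.Normal] :
    Group.IsSolvable (MulAut G ⧸ N) := by
  let inst : CommGroup G := { (inferInstance : Group G) with mul_comm := hcomm }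
  have hcyc : IsCyclic G := @IsSimpleGroup.isCyclic G inst _
  let e := IsCyclic.mulAutMulEquiv G
  have : Group.IsSolvable (MulAut G) :=
    Group.isSolvable_of_isSolvable_injective (f := e.toMonoidHom) e.injective
  exact Group.isSolvable_of_surjective (f := QuotientGroup.mk' N) (QuotientGroup.mk'_surjective N)

end Cfsg.Agent.Lib.H4.AutPerm
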